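import Groth.Agent.FormZero.Kills
import Groth.Agent.W7Rees.Push
import Groth.Agent.FormLim.Principal

/-!
Formal modules for an ideal and for a smaller one with the same zero locus.
-/

set_option autoImplicit false
set_option backward.isDefEq.respectTransparency false
set_option backward.isDefEq.respectTransparency.types false
set_option linter.style.haveILetI false
set_option maxHeartbeats 1000000

universe u

open CategoryTheory CategoryTheory.Limits AlgebraicGeometry TopologicalSpace Opposite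
open Groth.Agent.W7Exist (tn trG trG_comp trG_self exists_desc exists_desc_trG exists_desc_modPow epi_trG epi_tn)

noncomputable section

namespace Groth.Agent.FormZero

variable {A : Type u} [CommRing A] {X : Scheme.{u}} [X.Over (Spec (CommRingCat.of A))] (K J : Ideal A)

abbrev πJ (n : ℕ) (M : X.Modules) : M ⟶ Formal.modPow J (n + 1) M := Formal.modPowπ J (n + 1) M

instance epi_πJ (n : ℕ) (M : X.Modules) : Epi (πJ J n M) := by unfold πJ Formal.modPowπ; infer_instance

lemma killedBy_modPow (n : ℕ) (M : X.Modules) : Formal.KilledBy (J ^ (n + 1)) (Formal.modPow J (n + 1) M) :=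
  fun a ha => W7Exist.π_smulMod J (n + 1) M a ha

lemma killedBy_anti {I₁ I₂ : Ideal A} (h : I₁ ≤ I₂) {M : X.Modules} (hM : Formal.KilledBy I₂ M) :
    Formal.KilledBy I₁ M := fun a ha => hM a (h ha)

/-- A map into a killed module factors through the quotient. -/
lemma exists_desc_killed (n : ℕ) {M P : X.Modules} (hP : Formal.KilledBy (J ^ (n + 1)) P) (g : M ⟶ P) :
    ∃ g' : Formal.modPow J (n + 1) M ⟶ P, πJ J n M ≫ g' = g :=
  exists_desc_modPow J (n + 1) g fun a ha => by rw [W7Cech.smulMod_natural, hP a ha, comp_zero]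

/-- The map on quotients. -/
def mapQ (n k : ℕ) (h : n ≤ k) {M P : X.Modules} (g : M ⟶ P) :
    Formal.modPow J (k + 1) M ⟶ Formal.modPow J (n + 1) P :=
  (exists_desc_killed J k (killedBy_anti (Ideal.pow_le_pow_right (Nat.succ_le_succ h)) (killedBy_modPow J n P))
    (g ≫ πJ J n P)).choose

@[reassoc]
lemma π_mapQ (n k : ℕ) (h : n ≤ k) {M P : X.Modules} (g : M ⟶ P) :
    πJ J k M ≫ mapQ J n k h g = g ≫ πJ J n P :=
  (exists_desc_killed J k (killedBy_anti (Ideal.pow_le_pow_right (Nat.succ_le_succ h)) (killedBy_modPow J n P))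
    (g ≫ πJ J n P)).choose_spec

variable {K J}

/-- The quotient system. -/
abbrev sys (J : Ideal A) (G : ℕᵒᵖ ⥤ X.Modules) : ℕᵒᵖ ⥤ X.Modules :=
  Functor.ofOpSequence (X := fun n => Formal.modPow J (n + 1) (G.obj (op n)))
    (fun n => mapQ J n (n + 1) (Nat.le_succ n) (tn G n))

@[reassoc]
lemma π_trG (G : ℕᵒᵖ ⥤ X.Modules) {n k : ℕ} (h : n ≤ k) :
    πJ J k (G.obj (op k)) ≫ trG (sys J G) h = trG G h ≫ πJ J n (G.obj (op n)) := by
  induction k, h using Nat.le_induction with
  | base => rw [trG_self, trG_self, Category.id_comp]; exact Category.comp_id _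
  | succ k h ih =>
    rw [← trG_comp (sys J G) (Nat.le_succ k) h, ← trG_comp G (Nat.le_succ k) h,
      show trG (sys J G) (Nat.le_succ k) = mapQ J k (k + 1) (Nat.le_succ k) (tn G k) from
        Functor.ofOpSequence_map_homOfLE_succ _ k, π_mapQ_assoc, ih, Category.assoc]

variable (hKJ : K ≤ J) {m : ℕ} (hm : 0 < m)
  (hkill : ∀ (k : ℕ) (N : X.Modules), Coh.IsQCoh N → Formal.KilledBy (K ^ k) N → Formal.KilledBy (J ^ (m * k)) N)

include hKJ in
/-- The quotient system is formal. -/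
theorem isCohFormal_sys {G : ℕᵒᵖ ⥤ X.Modules} (hG : Formal.IsCohFormal K G) :
    Formal.IsCohFormal J (sys J G) := by
  refine W7Exist.isCohFormal_of J (fun n => Formal.modPow J (n + 1) (G.obj (op n))) _ (fun n => ?_) (fun n => killedBy_modPow J n _) (fun n => ?_) fun n => ?_
  · exact QC.isCoh_of_epi (hG.1 n) (W7Rees.isQCoh_modQuot _ _ (hG.1 n).1) (πJ J n _)
  · haveI := epi_tn hG n
    haveI : Epi (tn G n ≫ πJ J n (G.obj (op n))) := epi_comp _ _
    exact epi_of_epi_fac (π_mapQ J n (n + 1) (Nat.le_succ n) (tn G n))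
  · let z := cokernel.π (Formal.smulFamily (J ^ (n + 1)) (Formal.modPow J (n + 1 + 1) (G.obj (op (n + 1)))))
    have hzk : Formal.KilledBy (J ^ (n + 1))
        (cokernel (Formal.smulFamily (J ^ (n + 1)) (Formal.modPow J (n + 1 + 1) (G.obj (op (n + 1)))))) :=
      fun a ha => W7Exist.π_smulMod J (n + 1) _ a ha
    obtain ⟨w', hw'⟩ := exists_desc hG n (πJ J (n + 1) _ ≫ z) fun a ha => by
      rw [W7Cech.smulMod_natural, hzk a (Ideal.pow_right_mono hKJ _ ha), comp_zero]
    obtain ⟨w, hw⟩ := exists_desc_killed J n hzk w'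
    refine ⟨w, (cancel_epi (πJ J (n + 1) (G.obj (op (n + 1))))).1 ?_⟩
    rw [π_mapQ_assoc, hw, hw']

/-- The functor of quotient systems. -/
def fn (hKJ : K ≤ J) : Formal2.CohFormalCat K X ⥤ Formal2.CohFormalCat J X where
  obj G := ⟨sys J G.obj, isCohFormal_sys hKJ G.property⟩
  map {G₁ G₂} φ := ObjectProperty.homMk (NatTrans.ofOpSequence
    (fun n => mapQ J n n le_rfl (φ.hom.app (op n))) fun n => by
      rw [Functor.ofOpSequence_map_homOfLE_succ, Functor.ofOpSequence_map_homOfLE_succ,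
        ← cancel_epi (πJ J (n + 1) (G₁.obj.obj (op (n + 1)))), π_mapQ_assoc, π_mapQ, π_mapQ_assoc, π_mapQ]
      exact ((Category.assoc _ _ _).symm.trans
        (congrArg (· ≫ πJ J n _) (φ.hom.naturality (homOfLE (Nat.le_succ n)).op))).trans (Category.assoc _ _ _))
  map_id G := by
    refine ObjectProperty.hom_ext _ (NatTrans.ext (funext fun ⟨n⟩ => (cancel_epi (πJ J n (G.obj.obj (op n)))).1 ?_))
    exact (π_mapQ J n n le_rfl _).trans ((Category.id_comp _).trans (Category.comp_id _).symm)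
  map_comp {G₁ G₂ G₃} φ ψ := by
    refine ObjectProperty.hom_ext _ (NatTrans.ext (funext fun ⟨n⟩ => (cancel_epi (πJ J n (G₁.obj.obj (op n)))).1 ?_))
    change πJ J n _ ≫ mapQ J n n le_rfl _ = πJ J n _ ≫ mapQ J n n le_rfl _ ≫ mapQ J n n le_rfl _
    rw [π_mapQ, π_mapQ_assoc, π_mapQ, ← Category.assoc]
    rfl

section Full

variable {G₁ G₂ : ℕᵒᵖ ⥤ X.Modules} (h₁ : Formal.IsCohFormal K G₁) (h₂ : Formal.IsCohFormal K G₂)
include hm hkill h₁ h₂

omit h₁ in
lemma exists_retr (n : ℕ) :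
    ∃ r : Formal.modPow J (m * (n + 1) + 1) (G₂.obj (op (m * (n + 1)))) ⟶ G₂.obj (op n),
      πJ J (m * (n + 1)) _ ≫ r = trG G₂ (show n ≤ m * (n + 1) from (Nat.le_succ n).trans (Nat.le_mul_of_pos_left _ hm)) :=
  exists_desc_killed J _ (killedBy_anti (Ideal.pow_le_pow_right (Nat.le_succ _))
    (hkill (n + 1) _ (h₂.1 n).1 (h₂.2.1 n))) _

/-- Maps are determined by the maps of quotient systems. -/
theorem injective_map {φ ψ : G₁ ⟶ G₂}
    (e : ∀ n, φ.app (op n) ≫ πJ J n (G₂.obj (op n)) = ψ.app (op n) ≫ πJ J n (G₂.obj (op n))) : φ = ψ := by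
  refine NatTrans.ext (funext fun ⟨n⟩ => ?_)
  obtain ⟨r, hr⟩ := exists_retr hm hkill h₂ n
  have h := congrArg (· ≫ r) (e (m * (n + 1)))
  simp only [Category.assoc, hr] at h
  haveI := epi_trG h₁ (show n ≤ m * (n + 1) from (Nat.le_succ n).trans (Nat.le_mul_of_pos_left _ hm))
  rw [← cancel_epi (trG G₁ (show n ≤ m * (n + 1) from (Nat.le_succ n).trans (Nat.le_mul_of_pos_left _ hm)))]
  exact (φ.naturality _).trans (h.trans (ψ.naturality _).symm)

/-- Every map of quotient systems lifts. -/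
theorem exists_map (v : sys J G₁ ⟶ sys J G₂) :
    ∃ u : G₁ ⟶ G₂, ∀ n, u.app (op n) ≫ πJ J n (G₂.obj (op n)) = πJ J n (G₁.obj (op n)) ≫ v.app (op n) := by
  have hle : ∀ n, n ≤ m * (n + 1) := fun n => (Nat.le_succ n).trans (Nat.le_mul_of_pos_left _ hm)
  choose r hr using exists_retr hm hkill h₂
  choose u hu using fun n => exists_desc_trG h₁ (hle n) (h₂.2.1 n)
    (πJ J (m * (n + 1)) _ ≫ v.app (op (m * (n + 1))) ≫ r n)
  have hu' : ∀ n k (h : m * (n + 1) ≤ k), trG G₁ ((hle n).trans h) ≫ u n =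
      πJ J k _ ≫ v.app (op k) ≫ trG (sys J G₂) h ≫ r n := fun n k h => by
    rw [← trG_comp G₁ h (hle n), Category.assoc, hu, ← Category.assoc, ← π_trG, Category.assoc,
      reassoc_of% (v.naturality (homOfLE h).op)]
  refine ⟨NatTrans.ofOpSequence u fun n => ?_, fun n => ?_⟩
  · have hk : m * (n + 1) ≤ m * (n + 1 + 1) := Nat.mul_le_mul_left _ (Nat.le_succ _)
    haveI := epi_trG h₁ (hle (n + 1))
    rw [← cancel_epi (trG G₁ (hle (n + 1))), ← Category.assoc, trG_comp, hu' n _ hk]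
    refine Eq.trans ?_ ((congrArg (· ≫ tn G₂ n) (hu (n + 1))).symm.trans (Category.assoc _ _ _))
    simp only [Category.assoc]
    refine congrArg (_ ≫ ·) (congrArg (_ ≫ ·) ((cancel_epi (πJ J _ _)).1 ?_))
    rw [← Category.assoc, π_trG, Category.assoc, hr, trG_comp, ← Category.assoc, hr, trG_comp]
  · haveI := epi_trG h₁ (hle n)
    rw [← cancel_epi (trG G₁ (hle n))]
    change trG G₁ _ ≫ u n ≫ _ = _
    rw [← Category.assoc, hu, ← Category.assoc (trG G₁ _), ← π_trG, Category.assoc, Category.assoc, Category.assoc]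
    refine congrArg (_ ≫ ·) ?_
    have : r n ≫ πJ J n (G₂.obj (op n)) = trG (sys J G₂) (hle n) := (cancel_epi (πJ J _ _)).1 (by
      rw [← Category.assoc, hr, π_trG])
    rw [this]
    exact (v.naturality (homOfLE (hle n)).op).symm

end Full

include hKJ hm hkill in
/-- Every formal module for the bigger ideal is a quotient system. -/
theorem exists_iso_sys {H : ℕᵒᵖ ⥤ X.Modules} (hH : Formal.IsCohFormal J H) :
    ∃ G : ℕᵒᵖ ⥤ X.Modules, Formal.IsCohFormal K G ∧ Nonempty (sys J G ≅ H) := by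
  have hle : ∀ n, n ≤ m * (n + 1) := fun n => (Nat.le_succ n).trans (Nat.le_mul_of_pos_left _ hm)
  have hk : ∀ n, m * (n + 1) ≤ m * (n + 1 + 1) := fun n => Nat.mul_le_mul_left _ (Nat.le_succ _)
  let Q : ℕ → X.Modules := fun n => Formal.modPow K (n + 1) (H.obj (op (m * (n + 1))))
  let t : ∀ n, Q (n + 1) ⟶ Q n := fun n => mapQ K n (n + 1) (Nat.le_succ n) (trG H (hk n))
  have hG : Formal.IsCohFormal K (Functor.ofOpSequence t) := by
    refine W7Exist.isCohFormal_of K Q t (fun n => ?_) (fun n => killedBy_modPow K n _) (fun n => ?_) fun n => ?_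
    · exact QC.isCoh_of_epi (hH.1 _) (W7Rees.isQCoh_modQuot _ _ (hH.1 _).1) (πJ K n _)
    · haveI := epi_trG hH (hk n)
      haveI : Epi (trG H (hk n) ≫ πJ K n (H.obj (op (m * (n + 1))))) := epi_comp _ _
      exact epi_of_epi_fac (π_mapQ K n (n + 1) (Nat.le_succ n) (trG H (hk n)))
    · let z := cokernel.π (Formal.smulFamily (K ^ (n + 1)) (Q (n + 1)))
      have hzk : Formal.KilledBy (K ^ (n + 1)) (cokernel (Formal.smulFamily (K ^ (n + 1)) (Q (n + 1)))) :=
        fun a ha => W7Exist.π_smulMod K (n + 1) _ a ha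
      obtain ⟨w', hw'⟩ := exists_desc_trG hH (hk n) (killedBy_anti (Ideal.pow_le_pow_right (Nat.le_succ _))
        (hkill (n + 1) _ (W7Rees.isQCoh_modQuot _ _ (W7Rees.isQCoh_modQuot _ _ (hH.1 _).1)) hzk))
        (πJ K (n + 1) _ ≫ z)
      obtain ⟨w, hw⟩ := exists_desc_killed K n hzk w'
      refine ⟨w, (cancel_epi (πJ K (n + 1) (H.obj (op (m * (n + 1 + 1)))))).1 ?_⟩
      rw [π_mapQ_assoc, hw, hw']
  refine ⟨Functor.ofOpSequence t, hG, ?_⟩
  choose a ha using fun n => exists_desc_killed K n (killedBy_anti (Ideal.pow_right_mono hKJ _) (hH.2.1 n))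
    (trG H (hle n))
  choose b hb using fun n => exists_desc_killed J n (hH.2.1 n) (a n)
  have hiso : ∀ n, IsIso (b n) := fun n => by
    obtain ⟨c, hc⟩ := exists_desc_trG hH (hle n) (killedBy_modPow J n (Q n)) (πJ K n _ ≫ πJ J n _)
    haveI := epi_trG hH (hle n)
    refine ⟨c, ?_, ?_⟩
    · rw [← cancel_epi (πJ J n (Q n)), ← cancel_epi (πJ K n (H.obj (op (m * (n + 1))))), reassoc_of% (hb n),
        reassoc_of% (ha n), hc]
      exact congrArg (_ ≫ ·) (Category.comp_id _).symm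
    · rw [← cancel_epi (trG H (hle n)), reassoc_of% hc, hb, ha]
      exact (Category.comp_id _).symm
  haveI := hiso
  let η : sys J (Functor.ofOpSequence t) ⟶ H := NatTrans.ofOpSequence b fun n => by
    change _ = b (n + 1) ≫ tn H n
    rw [Functor.ofOpSequence_map_homOfLE_succ, ← cancel_epi (πJ J (n + 1) (Q (n + 1))), π_mapQ_assoc,
      show tn (Functor.ofOpSequence t) n = t n from Functor.ofOpSequence_map_homOfLE_succ _ n,
      reassoc_of% (hb (n + 1))]
    refine (congrArg (t n ≫ ·) (hb n)).trans ?_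
    rw [← cancel_epi (πJ K (n + 1) (H.obj (op (m * (n + 1 + 1))))), reassoc_of% (ha (n + 1))]
    simp only [t]
    rw [π_mapQ_assoc, ha, trG_comp]
    exact (trG_comp H (hle (n + 1)) (Nat.le_succ n)).symm
  exact ⟨NatIso.ofComponents (fun n => asIso (b n.unop)) fun k => η.naturality k⟩

include hKJ hm hkill in
/-- The quotient system functor is an equivalence. -/
theorem nonempty_equiv : Nonempty (Formal2.CohFormalCat K X ≌ Formal2.CohFormalCat J X) := by
  haveI : (fn (X := X) hKJ).Faithful := ⟨fun {G₁ G₂ φ ψ} h => ObjectProperty.hom_ext _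
    (injective_map hm hkill G₁.property G₂.property fun n => by
      have := congrArg (πJ J n (G₁.obj.obj (op n)) ≫ ·) congr(($h).hom.app (op n))
      exact (π_mapQ J n n le_rfl _).symm.trans (this.trans (π_mapQ J n n le_rfl _)))⟩
  haveI : (fn (X := X) hKJ).Full := ⟨fun {G₁ G₂} v => by
    obtain ⟨u, hu⟩ := exists_map hm hkill G₁.property G₂.property v.hom
    exact ⟨ObjectProperty.homMk u, ObjectProperty.hom_ext _ (NatTrans.ext (funext fun ⟨n⟩ =>
      (cancel_epi (πJ J n (G₁.obj.obj (op n)))).1 ((π_mapQ J n n le_rfl _).trans (hu n))))⟩⟩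
  haveI : (fn (X := X) hKJ).EssSurj := ⟨fun H => by
    obtain ⟨G, hG, ⟨e⟩⟩ := exists_iso_sys hKJ hm hkill H.property
    exact ⟨⟨G, hG⟩, ⟨ObjectProperty.isoMk _ e⟩⟩⟩
  haveI : (fn (X := X) hKJ).IsEquivalence := {}
  exact ⟨(fn (X := X) hKJ).asEquivalence⟩

end Groth.Agent.FormZero
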