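import Groth.Agent.W7Exist.Formal
import Groth.Agent.W7Exist.Rel

/-!
Ideals with the same zero locus kill the same modules, up to powers.
-/

set_option autoImplicit false
set_option backward.isDefEq.respectTransparency false
set_option backward.isDefEq.respectTransparency.types false
set_option linter.style.haveILetI false

universe u

open CategoryTheory CategoryTheory.Limits AlgebraicGeometry TopologicalSpace Opposite

noncomputable section

namespace Groth.Agent.FormZero

variable {A : Type u} [CommRing A] {X : Scheme.{u}} [X.Over (Spec (CommRingCat.of A))]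

/-- On an affine open an inclusion of zero loci is an inclusion in the radical. -/
lemma le_radical (I J : Ideal A)
    (hV : (fun x : X => (X ↘ Spec (CommRingCat.of A)) x) ⁻¹' PrimeSpectrum.zeroLocus (I : Set A) ⊆
      (fun x : X => (X ↘ Spec (CommRingCat.of A)) x) ⁻¹' PrimeSpectrum.zeroLocus (J : Set A))
    {U : X.Opens} (hU : IsAffineOpen U) :
    J.map (W7Cech.secRing A U) ≤ (I.map (W7Cech.secRing A U)).radical := by
  rw [Ideal.radical_eq_sInf]
  refine le_sInf fun p ⟨hIp, hp⟩ => ?_
  let q : Spec Γ(X, U) := (⟨p, hp⟩ : PrimeSpectrum Γ(X, U))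
  have hx : (X ↘ Spec (CommRingCat.of A)) (hU.fromSpec q) =
      PrimeSpectrum.comap (W7Cech.secRing A U) ⟨p, hp⟩ := by
    rw [← Scheme.Hom.comp_apply, W7Exist.fromSpec_over hU]
    rfl
  rw [Ideal.map_le_iff_le_comap]
  have h1 : hU.fromSpec q ∈
      (fun x : X => (X ↘ Spec (CommRingCat.of A)) x) ⁻¹' PrimeSpectrum.zeroLocus (I : Set A) := by
    rw [Set.mem_preimage]
    show (X ↘ Spec (CommRingCat.of A)) (hU.fromSpec q) ∈ PrimeSpectrum.zeroLocus (I : Set A)
    rw [hx]
    exact Ideal.map_le_iff_le_comap.1 hIp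
  have h2 := hV h1
  rw [Set.mem_preimage] at h2
  change (X ↘ Spec (CommRingCat.of A)) (hU.fromSpec q) ∈ PrimeSpectrum.zeroLocus (J : Set A) at h2
  rw [hx] at h2
  exact h2

/-- An inclusion of zero loci gives, on killed quasi-coherent modules, killing by a bounded multiple power. -/
theorem exists_kills [IsNoetherian X] (I J : Ideal A)
    (hV : (fun x : X => (X ↘ Spec (CommRingCat.of A)) x) ⁻¹' PrimeSpectrum.zeroLocus (I : Set A) ⊆
      (fun x : X => (X ↘ Spec (CommRingCat.of A)) x) ⁻¹' PrimeSpectrum.zeroLocus (J : Set A)) :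
    ∃ m, 0 < m ∧ ∀ (k : ℕ) (N : X.Modules), Coh.IsQCoh N → Formal.KilledBy (I ^ k) N →
      Formal.KilledBy (J ^ (m * k)) N := by
  obtain ⟨κ, _, V, hVa, hcov⟩ : ∃ (κ : Type u) (_ : Finite κ) (V : κ → X.Opens),
      (∀ i, IsAffineOpen (V i)) ∧ ∀ x : X, ∃ i, x ∈ V i := by
    let C := X.affineCover.finiteSubcover
    exact ⟨C.I₀, inferInstance, fun i => (C.f i).opensRange,
      fun i => isAffineOpen_opensRange _, fun x => ⟨_, C.covers x⟩⟩
  have hm : ∀ i, ∃ m, (J.map (W7Cech.secRing A (V i))) ^ m ≤ I.map (W7Cech.secRing A (V i)) := fun i => by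
    haveI := IsLocallyNoetherian.component_noetherian (⟨V i, hVa i⟩ : X.affineOpens)
    obtain ⟨m, hm⟩ := Ideal.exists_radical_pow_le_of_fg (I.map (W7Cech.secRing A (V i))) (IsNoetherian.noetherian _)
    exact ⟨m, (Ideal.pow_right_mono (le_radical I J hV (hVa i)) m).trans hm⟩
  choose ms hms using hm
  obtain ⟨m, hm⟩ := Finite.exists_le ms
  refine ⟨m + 1, Nat.succ_pos m, fun k N hN hk a ha => ?_⟩
  refine W7Exist.hom_eq_zero_of_cover V hVa hcov hN _ fun i s => ?_
  have h : W7Cech.secRing A (V i) a ∈ (I ^ k).map (W7Cech.secRing A (V i)) := by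
    rw [Ideal.map_pow]
    refine Ideal.pow_right_mono ((Ideal.pow_le_pow_right (show ms i ≤ m + 1 from (hm i).trans (Nat.le_succ m))).trans
      (hms i)) k ?_
    rw [← pow_mul, ← Ideal.map_pow]
    exact Ideal.mem_map_of_mem _ ha
  exact W7Exist.smul_eq_zero_of_killedBy hk (V i) _ h s

end Groth.Agent.FormZero
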